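import Groth.Agent.Lib.RR22.RR
import Groth.Agent.Lib.Index22.Descend
import Groth.Agent.Lib.Index22.Complement
import Groth.Agent.Lib.FpqcDesc.Basic
import Groth.Agent.Lib.AbRigid.Isogeny

/-!
# Euler characteristic of the pullback of a Poincaré module along the classifying morphism
-/

universe u

open CategoryTheory Limits MonoidalCategory CartesianMonoidalCategory AlgebraicGeometry TopologicalSpace Opposite
open scoped MonObj GrpObj CategoryTheory.Obj

set_option linter.style.haveILetI false
set_option linter.unusedSectionVars false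
set_option maxHeartbeats 1000000
set_option synthInstance.maxHeartbeats 400000
set_option backward.isDefEq.respectTransparency false

noncomputable section

namespace Groth.Agent.RR22

open Groth.Agent.AlgEquiv22 Groth.Agent.MumVan22 Groth.Agent.AbDual21 Groth.Agent.PicDesc21 Groth.Agent.Index22

noncomputable local instance instLawCl (Y : Scheme.{u}) : PicGrp.Law Y := M2.law Y

variable {k : Type u} [Field k]

/-- The Euler characteristic does not change on the geometric fibre. -/
theorem euler_bar {A : Over (Spec (CommRingCat.of k))} [IsProper A.hom] {N : A.left.Modules}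
    (hN : PicF.IsInvertible N) :
    @Curv2.euler (AlgebraicClosure k) _ (bar A).left ⟨(bar A).hom⟩ ((Scheme.Modules.pullback (prj A)).obj N) =
      @Curv2.euler k _ A.left ⟨A.hom⟩ N := by
  letI : A.left.Over (Spec (CommRingCat.of k)) := ⟨A.hom⟩
  haveI : CompactSpace A.left := QuasiCompact.compactSpace_of_compactSpace A.hom
  haveI : QuasiSeparatedSpace A.left := quasiSeparatedSpace_of_quasiSeparated A.hom
  exact CohBC18.euler_bc (k := k) A.left (AlgebraicClosure k) N
    (M2.isQCoh_of_isFinLocFree (M2.isFinLocFree_of_isInvertible hN))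

/-- The pullback of a module along a homomorphism which is not finite has Euler characteristic zero. -/
theorem euler_eq_zero_of_not_isFinite {C D : Over (Spec (CommRingCat.of k))} [GrpObj C] [IsProper C.hom]
    [GeometricallyIntegral C.hom] [GrpObj D] [IsProper D.hom] [GeometricallyIntegral D.hom] (h : C ⟶ D) [IsMonHom h]
    (hh : ¬ IsFinite h.left) {P : D.left.Modules} (hP : PicF.IsInvertible P) {Q : C.left.Modules}
    (hQ : PicF.IsInvertible Q) (hc : PicF.cl Q = PicF.pullCl h.left (PicF.cl P)) :
    @Curv2.euler k _ C.left ⟨C.hom⟩ Q = 0 := by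
  rw [← euler_bar hQ]
  let hb : bar C ⟶ bar D := (Over.pullback (φbar k)).map h
  have hsq := BorelFix21.isPullback_bc_map (φbar k) h
  have hQb : PicF.IsInvertible ((Scheme.Modules.pullback (prj C)).obj Q) := PicLoc.isInvertible_pullback _ hQ
  have hPb : PicF.IsInvertible ((Scheme.Modules.pullback (prj D)).obj P) := PicLoc.isInvertible_pullback _ hP
  have hcb : PicGrp.cls _ hQb = pb hb (PicGrp.cls _ hPb) := by
    apply Subtype.ext
    rw [pb, PicGrp.pullHom_cls, PicGrp.cls_val, PicGrp.cls_val, ← PicLoc.pullCl_cl, ← PicLoc.pullCl_cl,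
      ← PicLoc.pullCl_cl, hc, pullCl_pullCl, pullCl_pullCl]
    exact congrArg (fun r => PicF.pullCl r (PicF.cl P)) hsq.w
  refine euler_eq_zero_of_infinite hQb fun hfin => hh ?_
  have hker : {z : 𝟙_ (Over (Spec (CommRingCat.of (AlgebraicClosure k)))) ⟶ bar C | z ≫ hb = 1}.Finite := by
    refine hfin.subset fun z (hz : z ≫ hb = 1) => ?_
    show pb (𝟙 _ * (toUnit _ ≫ z)) (PicGrp.cls _ hQb) = PicGrp.cls _ hQb
    rw [hcb, pb_pb]
    congr 2
    rw [MonObj.mul_comp, Category.id_comp, Category.assoc, hz, MonObj.comp_one, _root_.mul_one]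
  haveI : IsFinite hb.left := Index22.isFinite_of_finite_points hb fun b => by
    by_cases he : ∃ a₀ : 𝟙_ (Over (Spec (CommRingCat.of (AlgebraicClosure k)))) ⟶ bar C, a₀ ≫ hb = b
    · obtain ⟨a₀, rfl⟩ := he
      refine (hker.image fun z => z * a₀).subset fun a (ha : a ≫ hb = a₀ ≫ hb) => ⟨a * a₀⁻¹, ?_, ?_⟩
      · show (a * a₀⁻¹) ≫ hb = 1
        rw [MonObj.mul_comp, GrpObj.inv_comp, ha, mul_inv_cancel]
      · exact inv_mul_cancel_right a a₀
    · exact Set.finite_empty.subset fun a ha => absurd ⟨a, ha⟩ he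
  haveI : Surjective (φbar k) := ⟨fun x => ⟨IsLocalRing.closedPoint (AlgebraicClosure k),
    Subsingleton.elim (α := PrimeSpectrum k) _ _⟩⟩
  haveI : Flat (φbar k) := by
    rw [HasRingHomProperty.Spec_iff (P := @Flat)]
    exact RingHom.flat_algebraMap_iff.mpr inferInstance
  have hfst : (@Surjective ⊓ @Flat ⊓ @QuasiCompact : MorphismProperty Scheme.{u}) (prj D) :=
    ⟨⟨MorphismProperty.pullback_fst _ _ inferInstance, MorphismProperty.pullback_fst _ _ inferInstance⟩,
      MorphismProperty.pullback_fst _ _ inferInstance⟩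
  haveI := FpqcDesc.descendsAlong_isFinite.{u}
  exact MorphismProperty.of_isPullback_of_descendsAlong (P := @IsFinite) hsq.flip hfst inferInstance

variable {A B Bt : Over (Spec (CommRingCat.of k))}
  [GrpObj A] [IsProper A.hom] [Smooth A.hom] [GeometricallyConnected A.hom]
  [GrpObj B] [IsProper B.hom] [Smooth B.hom] [GeometricallyConnected B.hom]
  [GrpObj Bt] [IsProper Bt.hom] [Smooth Bt.hom] [GeometricallyConnected Bt.hom]
  {φ : ∀ T : Over (Spec (CommRingCat.of k)), PicF.Cl (PicF.XT B.hom T) → (T ⟶ Bt)}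
  (hφ : AbDual.IsDualAV Scheme.fppfPrecoverage B Bt φ)
  {P : (PicF.XT B.hom Bt).Modules} (hP : PicF.IsInvertible P) (hPξ : AbDual.IsPoincareCl B Bt φ (PicF.cl P))

include hφ hP hPξ in
/-- `|χ(Q)| = 1` exactly when the classifying morphism is an isomorphism. -/
theorem natAbs_euler_eq_one_iff {g : ℕ} (hA : topologicalKrullDim A.left = g) (hB : topologicalKrullDim B.left = g)
    {Q : (PicF.XT B.hom A).Modules} (hQ : PicF.IsInvertible Q) (hQ0 : AbDual.IsPicZeroCl B.hom A (PicF.cl Q))
    (hQB : PicF.IsTrivialCl (PicF.pullCl (PicF.secT B.hom η[B].left (Over.w η[B]) A) (PicF.cl Q)))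
    (hQA : PicF.IsTrivialCl (PicF.pullCl (PicF.XTmap B.hom η[A]) (PicF.cl Q))) :
    (@Curv2.euler k _ (B ⊗ A).left ⟨(B ⊗ A).hom⟩ Q).natAbs = 1 ↔ IsIso (φ A (PicF.cl Q)) := by
  haveI : GeometricallyIntegral A.hom := AbRigid.geometricallyIntegral_of_smooth A
  haveI : GeometricallyIntegral B.hom := AbRigid.geometricallyIntegral_of_smooth B
  haveI : GeometricallyIntegral Bt.hom := AbRigid.geometricallyIntegral_of_smooth Bt
  haveI : IsProper (B ⊗ A).hom := inferInstanceAs (IsProper (pullback.fst B.hom A.hom ≫ B.hom))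
  haveI : IsProper (B ⊗ Bt).hom := inferInstanceAs (IsProper (pullback.fst B.hom Bt.hom ≫ B.hom))
  haveI : GeometricallyIntegral (B ⊗ A).hom := AbRigid.geometricallyIntegral_tensorObj B A
  haveI : GeometricallyIntegral (B ⊗ Bt).hom := AbRigid.geometricallyIntegral_tensorObj B Bt
  haveI : IsIntegral A.left := GeometricallyIntegral.isIntegral_of_subsingleton A.hom
  haveI : IsIntegral Bt.left := GeometricallyIntegral.isIntegral_of_subsingleton Bt.hom
  haveI := AbRigid.geometricallyReduced_of_smooth B.hom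
  haveI := isCommMonObj_of_isProper_of_geometricallyIntegral Bt
  letI : (B ⊗ A).left.Over (Spec (CommRingCat.of k)) := ⟨(B ⊗ A).hom⟩
  obtain ⟨hBt, -⟩ := Poincare22.exists_local hφ hP hPξ hB
  have hPe := euler_poincare hφ hP hPξ hB
  set f := φ A (PicF.cl Q)
  have hone : η[A] ≫ f = η[Bt] := by
    rw [← hφ.relPic.natural A _ η[A] _ hQ0, hQA, phi_one hφ, Hom.one_def, toUnit_unique (toUnit _) (𝟙 _),
      Category.id_comp]
  haveI : IsMonHom f := AbRigid.isMonHom_of_one A Bt f hone
  have hc : PicF.cl Q = PicF.pullCl (B ◁ f).left (PicF.cl P) := by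
    refine KernelKL22.eq_of_phi hφ hQ0 (picZero_whisker f hPξ.1) ?_ ?_
    · rw [phi_natural hφ f hPξ.1, hPξ.2.1, Category.comp_id]
    · have h2 : lift (1 : A ⟶ B) (𝟙 A) ≫ B ◁ f = f ≫ lift (1 : Bt ⟶ B) (𝟙 Bt) := by
        apply CartesianMonoidalCategory.hom_ext <;> simp
      rw [(KernelKL22.isTrivialCl_secT_iff _).1 hQB, unitCl, pullCl_pullCl, ← Over.comp_left, h2, Over.comp_left,
        ← pullCl_pullCl]
      rw [show PicF.pullCl (lift (1 : Bt ⟶ B) (𝟙 Bt)).left (PicF.cl P) = PicF.cl (Coh.structureModule Bt.left) from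
        KernelKL22.unitCl_poincare hφ hPξ, pullCl_structure]
  by_cases hfin : IsFinite f.left
  · haveI := hfin
    haveI : Surjective f.left := AbRigid.surjective_of_isFinite A Bt f (hA.trans hBt.symm)
    haveI : Flat f.left := AbRigid.flat_of_surjective A Bt f
    obtain ⟨d, hd, -, -⟩ := IsogEuler22.exists_free f
    obtain ⟨hf1, hf2, hrk⟩ := finrank_whiskerLeft (A := B) f hd
    obtain ⟨i⟩ := (PicGrp.cl_eq_cl_iff _ _).1 (hc.trans (PicLoc.pullCl_cl (B ◁ f).left P))
    rw [CurveCoh17.euler_iso (X := (B ⊗ A).left) i,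
      IsogEuler22.euler_pullback (B ◁ f) d hrk (CubeField.isCoh_of_isInvertible hP), hPe, Int.natAbs_mul,
      Int.natAbs_pow]
    simp only [Int.natAbs_natCast, Int.natAbs_neg, Int.natAbs_one, one_pow, _root_.mul_one]
    haveI : IsLocallyNoetherian Bt.left := LocallyOfFiniteType.isLocallyNoetherian Bt.hom
    have hrank : IsIso f.left ↔ f.left.finrank = 1 := Scheme.Hom.isIso_iff_finrank_eq _
    constructor
    · intro h1
      subst h1
      haveI : IsIso f.left := hrank.2 (funext hd)
      haveI : IsIso ((Over.forget _).map f) := ‹IsIso f.left›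
      exact isIso_of_reflects_iso f (Over.forget _)
    · intro h
      haveI : IsIso f.left := inferInstanceAs (IsIso ((Over.forget _).map f))
      have e := congrFun (hrank.1 inferInstance) (η[Bt].left (IsLocalRing.closedPoint k))
      rw [hd] at e
      exact e
  · have hzero : @Curv2.euler k _ (B ⊗ A).left ⟨(B ⊗ A).hom⟩ Q = 0 := by
      refine euler_eq_zero_of_not_isFinite (B ◁ f) (fun hh => hfin ?_) hP hQ hc
      haveI := hh
      let s : A ⟶ B ⊗ A := lift 1 (𝟙 A)
      let t : Bt ⟶ B ⊗ Bt := lift 1 (𝟙 Bt)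
      have hst : s ≫ B ◁ f = f ≫ t := by apply CartesianMonoidalCategory.hom_ext <;> simp [s, t]
      haveI : IsClosedImmersion s.left := by
        haveI : IsClosedImmersion (s.left ≫ (snd B A).left) := by
          rw [← Over.comp_left, lift_snd, Over.id_left]; infer_instance
        haveI : IsSeparated (snd B A).left := inferInstanceAs (IsSeparated (pullback.snd B.hom A.hom))
        exact IsClosedImmersion.of_comp s.left (snd B A).left
      haveI : IsFinite (f.left ≫ t.left) := by rw [← Over.comp_left, ← hst, Over.comp_left]; infer_instance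
      haveI : IsSeparated t.left := by
        haveI : IsSeparated (t.left ≫ (B ⊗ Bt).hom) := by rw [Over.w]; infer_instance
        exact IsSeparated.of_comp t.left (B ⊗ Bt).hom
      exact IsFinite.of_comp f.left t.left
    rw [hzero]
    refine ⟨fun h => absurd h (by simp), fun h => absurd ?_ hfin⟩
    haveI : IsIso f.left := inferInstanceAs (IsIso ((Over.forget _).map f))
    infer_instance

end Groth.Agent.RR22

end
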