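import Groth.Agent.Lib.RR22.Kunneth
import Groth.Agent.Lib.Index22.Index
import Groth.Agent.Lib.Index22.Quat
import Groth.Agent.Lib.MumVan22.AmpleVan
import Groth.Agent.Lib.AVDegree22.EulerVol

/-!
# Euler characteristics of exterior products and of inverse classes on abelian varieties
-/

universe u

open CategoryTheory Limits MonoidalCategory CartesianMonoidalCategory AlgebraicGeometry TopologicalSpace Opposite
open scoped MonObj GrpObj

set_option linter.style.haveILetI false
set_option linter.unusedSectionVars false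
set_option maxHeartbeats 1000000
set_option backward.isDefEq.respectTransparency false

noncomputable section

namespace Groth.Agent.RR22

open Groth.Agent.AlgEquiv22 Groth.Agent.MumVan22

noncomputable local instance instLawRRP (Y : Scheme.{u}) : PicGrp.Law Y := M2.law Y

/-- Two rational polynomials which agree on the large natural numbers agree. -/
theorem poly_ext {p q : Polynomial ℚ} (n₀ : ℕ) (h : ∀ n : ℕ, n₀ ≤ n → p.eval (n : ℚ) = q.eval (n : ℚ)) : p = q := by
  refine Polynomial.eq_of_infinite_eval_eq p q (Set.Infinite.mono ?_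
    ((Set.Ici_infinite n₀).image (f := fun n : ℕ => (n : ℚ)) Nat.cast_injective.injOn))
  rintro _ ⟨n, hn, rfl⟩
  exact h n hn

theorem eval_aeval (R : MvPolynomial (Fin 2) ℚ) (b : Fin 2 → Polynomial ℚ) (t : ℚ) :
    (MvPolynomial.aeval b R : Polynomial ℚ).eval t = MvPolynomial.eval (fun i => (b i).eval t) R := by
  induction R using MvPolynomial.induction_on with
  | C a => simp
  | add a a' ha hb => simp only [map_add, Polynomial.eval_add, ha, hb]
  | mul_X a i ha => simp only [map_mul, Polynomial.eval_mul, ha, MvPolynomial.aeval_X, MvPolynomial.eval_X]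

variable {k : Type u} [Field k] {A : Over (Spec (CommRingCat.of k))} [GrpObj A] [IsProper A.hom]
  [GeometricallyIntegral A.hom]

/-- The Euler characteristic of an exterior product. -/
theorem euler_box {B : Over (Spec (CommRingCat.of k))} [GrpObj B] [IsProper B.hom] [GeometricallyIntegral B.hom]
    {L : A.left.Modules} (hL : PicF.IsInvertible L) {G : B.left.Modules} (hG : PicF.IsInvertible G)
    {M : (A ⊗ B).left.Modules} (hM : PicF.IsInvertible M)
    (hc : PicGrp.cls M hM = pb (fst A B) (PicGrp.cls L hL) * pb (snd A B) (PicGrp.cls G hG)) :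
    @Curv2.euler k _ (A ⊗ B).left ⟨(A ⊗ B).hom⟩ M =
      @Curv2.euler k _ A.left ⟨A.hom⟩ L * @Curv2.euler k _ B.left ⟨B.hom⟩ G := by
  letI : A.left.Over (Spec (CommRingCat.of k)) := ⟨A.hom⟩
  letI : B.left.Over (Spec (CommRingCat.of k)) := ⟨B.hom⟩
  letI : (A ⊗ B).left.Over (Spec (CommRingCat.of k)) := ⟨(A ⊗ B).hom⟩
  haveI : IsProper (A.left ↘ Spec (CommRingCat.of k)) := inferInstanceAs (IsProper A.hom)
  haveI : IsProper (B.left ↘ Spec (CommRingCat.of k)) := inferInstanceAs (IsProper B.hom)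
  haveI : IsProper (A ⊗ B).hom := inferInstanceAs (IsProper (pullback.fst A.hom B.hom ≫ A.hom))
  haveI : GeometricallyIntegral (A ⊗ B).hom := AbRigid.geometricallyIntegral_tensorObj A B
  haveI : IsIntegral A.left := GeometricallyIntegral.isIntegral_of_subsingleton A.hom
  haveI : IsIntegral (A ⊗ B).left := GeometricallyIntegral.isIntegral_of_subsingleton (A ⊗ B).hom
  obtain ⟨H, hH⟩ := CubeField.exists_isAmple (A := A)
  obtain ⟨d, hd⟩ : ∃ d : ℕ, topologicalKrullDim A.left = d := ⟨_, VarDim.dim_eq_sdim_genericPoint A.hom⟩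
  obtain ⟨D, hD⟩ : ∃ D : ℕ, topologicalKrullDim (A ⊗ B).left = D := ⟨_, VarDim.dim_eq_sdim_genericPoint (A ⊗ B).hom⟩
  obtain ⟨P, -, hP⟩ := AVDegree22.exists_euler_class D hD.le
    ![M, (Scheme.Modules.pullback (fst A B).left).obj H]
    (fun i => by fin_cases i; exacts [hM, PicLoc.isInvertible_pullback _ hH.1])
  obtain ⟨Q, -, hQ⟩ := AVDegree22.exists_euler_class d hd.le ![L, H] (fun i => by fin_cases i; exacts [hL, hH.1])
  let p : Polynomial ℚ := MvPolynomial.aeval ![1, Polynomial.X] P
  let q : Polynomial ℚ := MvPolynomial.aeval ![1, Polynomial.X] Q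
  have hev : ∀ (R : MvPolynomial (Fin 2) ℚ) (n : ℕ), (MvPolynomial.aeval ![1, Polynomial.X] R : Polynomial ℚ).eval (n : ℚ) =
      MvPolynomial.eval (fun i => (((![1, n] : Fin 2 → ℕ) i : ℕ) : ℚ)) R := by
    intro R n
    induction R using MvPolynomial.induction_on with
    | C a => simp
    | add a b ha hb => simp only [map_add, Polynomial.eval_add, ha, hb]
    | mul_X a i ha =>
      simp only [map_mul, Polynomial.eval_mul, ha, MvPolynomial.aeval_X, MvPolynomial.eval_X]
      fin_cases i <;> simp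
  obtain ⟨n₀, hn₀⟩ := CohFound.exists_vanishing_all A.hom hH (CubeField.isCoh_of_isInvertible hL)
  have hpow : ∀ (X : Scheme.{u}) (N : X.Modules) (hN : PicF.IsInvertible N) (n : ℕ),
      PicGrp.cls _ (M2.isInvertible_tensorPow hN n) = PicGrp.cls N hN ^ n := fun X N hN n =>
    Subtype.ext (by rw [PicGrp.cls_pow_val, PicGrp.cls_val])
  have key : p = q * Polynomial.C (Curv2.euler k B.left G : ℚ) := by
    refine poly_ext n₀ fun n hn => ?_
    set C := CohB1.tensorMod L (CohB1.tensorPow H n)
    have hCi : PicF.IsInvertible C := M2.isInvertible_tensor hL (M2.isInvertible_tensorPow hH.1 n)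
    have hCc : PicGrp.cls C hCi = PicGrp.cls L hL * PicGrp.cls H hH.1 ^ n := by
      rw [← hpow _ H hH.1 n]
      exact Subtype.ext (by rw [PicGrp.mul_val, PicGrp.cls_val, PicGrp.cls_val, PicGrp.cls_val, PicGrp.mulCl_cl])
    set W := CohB1.tensorMod ((Scheme.Modules.pullback (fst A B).left).obj C)
      ((Scheme.Modules.pullback (snd A B).left).obj G)
    have hW : PicF.IsInvertible W :=
      M2.isInvertible_tensor (PicLoc.isInvertible_pullback _ hCi) (PicLoc.isInvertible_pullback _ hG)
    have hWc : PicGrp.cls W hW = pb (fst A B) (PicGrp.cls C hCi) * pb (snd A B) (PicGrp.cls G hG) := by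
      apply Subtype.ext
      rw [pb, pb, PicGrp.pullHom_cls, PicGrp.pullHom_cls, PicGrp.mul_val, PicGrp.cls_val, PicGrp.cls_val,
        PicGrp.cls_val, PicGrp.mulCl_cl]
    have h1 : (Curv2.euler k (A ⊗ B).left W : ℚ) = p.eval (n : ℚ) := by
      rw [hev, hP ![1, n] W hW]
      rw [Fin.prod_univ_two]
      simp only [Matrix.cons_val_zero, Matrix.cons_val_one, pow_one]
      rw [hWc, hCc, hc, map_mul, map_pow]
      show _ = _ * PicGrp.cls _ (PicLoc.isInvertible_pullback (fst A B).left hH.1) ^ n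
      rw [show PicGrp.cls _ (PicLoc.isInvertible_pullback (fst A B).left hH.1) = pb (fst A B) (PicGrp.cls H hH.1) from
        (PicGrp.pullHom_cls _ _ _ _).symm, mul_right_comm]
    have h2 : (Curv2.euler k A.left C : ℚ) = q.eval (n : ℚ) := by
      rw [hev, hQ ![1, n] C hCi]
      rw [Fin.prod_univ_two]
      simp only [Matrix.cons_val_zero, Matrix.cons_val_one, pow_one]
      exact hCc
    rw [Polynomial.eval_mul, Polynomial.eval_C, ← h1, ← h2]
    exact_mod_cast euler_box_acyclic (IsPullback.of_hasPullback A.hom B.hom) pullback.condition.symm hG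
      (CubeField.isCoh_of_isInvertible hG) (CubeField.isCoh_of_isInvertible hCi)
      fun m hm => (CohFound.subsingleton_HH_iff C m).2 (hn₀ n hn m hm)
  have h0 := congrArg (Polynomial.eval ((0 : ℕ) : ℚ)) key
  rw [Polynomial.eval_mul, Polynomial.eval_C, hev, hev, ← hP ![1, 0] M hM (by simp [Fin.prod_univ_two]),
    ← hQ ![1, 0] L hL (by simp [Fin.prod_univ_two])] at h0
  exact_mod_cast h0

variable [IsAlgClosed k]

/-- The Euler characteristic at the square of an integer. -/
theorem euler_sq_pow {L : A.left.Modules} (hL : PicF.IsInvertible L) (hnd : Index22.Nd (PicGrp.cls L hL))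
    {g : ℕ} (hg : topologicalKrullDim A.left = g) {n : ℕ} (hn : 0 < n) :
    @Curv2.euler k _ A.left ⟨A.hom⟩ (CohB1.tensorPow L (n * n)) =
      (n : ℤ) ^ (2 * g) * @Curv2.euler k _ A.left ⟨A.hom⟩ L := by
  letI : A.left.Over (Spec (CommRingCat.of k)) := ⟨A.hom⟩
  obtain ⟨hf, hfl, -⟩ := AVDegree22.isFinite_flat_surjective_pow A hn
  haveI := hf
  haveI := hfl
  set c := PicGrp.cls L hL with hc
  set e := (pb (𝟙 A)⁻¹ c * c⁻¹) ^ (n * (n - 1) / 2)
  obtain ⟨E, hE, hEeq⟩ := PicGrp.exists_eq_cls e
  obtain ⟨a, ha⟩ := exists_translate hL hE (hEeq ▸ Inv.pow' (inv_symm_div c) _) hnd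
  rw [← hEeq, ← hc] at ha
  obtain ⟨N, hN, hNeq⟩ := PicGrp.exists_eq_cls
    (pb (fst A A) (c ^ (n * n)) * (pb (fst A A * snd A A) c * (pb (fst A A) c)⁻¹))
  haveI : IsProper (snd A A).left := inferInstanceAs (IsProper (pullback.snd A.hom A.hom))
  haveI : Flat (snd A A).left := AbRigid.flat_snd_left A A
  haveI : IsIntegral A.left := GeometricallyIntegral.isIntegral_of_subsingleton A.hom
  let e0 : 𝟙_ (Over (Spec (CommRingCat.of k))) ⟶ A := 1
  have heu := euler_slice_eq (snd A A) (CubeField.isCoh_of_isInvertible hN) (isFlatOver_proj (snd A A) hN)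
    (sl A a) (sl A e0) a e0 (isPullback_slice_snd a) (isPullback_slice_snd e0)
  obtain ⟨ia⟩ : Nonempty ((Scheme.Modules.pullback (sl A a).left).obj N ≅
      (Scheme.Modules.pullback (𝟙 A ^ n).left).obj L) := by
    refine (PicGrp.cls_eq_cls_iff (PicLoc.isInvertible_pullback _ hN) (PicLoc.isInvertible_pullback _ hL)).1 ?_
    rw [cls_slice _ _ hN hNeq, ha, ← PicGrp.pullHom_cls _ (M2.pullMul _) _ hL]
    exact (pb_pow_class c n).symm
  have hP := M2.isInvertible_tensorPow hL (n * n)
  obtain ⟨i0⟩ : Nonempty ((Scheme.Modules.pullback (sl A e0).left).obj N ≅ CohB1.tensorPow L (n * n)) := by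
    refine (PicGrp.cls_eq_cls_iff (PicLoc.isInvertible_pullback _ hN) hP).1 ?_
    rw [cls_slice _ _ hN hNeq, MonObj.comp_one, _root_.mul_one, pb_id, mul_inv_cancel, _root_.mul_one]
    exact Subtype.ext (by rw [PicGrp.cls_pow_val, PicGrp.cls_val])
  rw [CurveCoh17.euler_iso ia, CurveCoh17.euler_iso i0,
    IsogEuler22.euler_pullback (𝟙 A ^ n) (n ^ (2 * g)) (AVDegree22.finrank_pow A hg hn)
      (CubeField.isCoh_of_isInvertible hL)] at heu
  rw [← heu]
  push_cast
  rfl

/-- The Euler characteristic of the inverse. -/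
theorem euler_inverse {L D : A.left.Modules} (hL : PicF.IsInvertible L) (hnd : Index22.Nd (PicGrp.cls L hL))
    (hD : PicF.IsInvertible D) (hDc : PicGrp.cls D hD = (PicGrp.cls L hL)⁻¹)
    {g : ℕ} (hg : topologicalKrullDim A.left = g) :
    @Curv2.euler k _ A.left ⟨A.hom⟩ D = (-1) ^ g * @Curv2.euler k _ A.left ⟨A.hom⟩ L := by
  letI : A.left.Over (Spec (CommRingCat.of k)) := ⟨A.hom⟩
  haveI : IsIntegral A.left := GeometricallyIntegral.isIntegral_of_subsingleton A.hom
  obtain ⟨P, -, hP⟩ := AVDegree22.exists_euler_class g hg.le ![L, D] (fun i => by fin_cases i; exacts [hL, hD])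
  have hev := eval_aeval P
  let p : Polynomial ℚ := MvPolynomial.aeval ![Polynomial.X, 0] P
  let q : Polynomial ℚ := MvPolynomial.aeval ![Polynomial.X, 1] P
  have hp : ∀ (m : ℕ) (W : A.left.Modules) (hW : PicF.IsInvertible W), PicGrp.cls W hW = PicGrp.cls L hL ^ m →
      (Curv2.euler k A.left W : ℚ) = p.eval (m : ℚ) := by
    intro m W hW h
    rw [hev, hP ![m, 0] W hW (by simpa [Fin.prod_univ_two] using h)]
    refine congrArg (fun f => MvPolynomial.eval f P) (funext fun i => ?_)
    fin_cases i <;> simp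
  have hq : ∀ (m : ℕ) (W : A.left.Modules) (hW : PicF.IsInvertible W),
      PicGrp.cls W hW = PicGrp.cls L hL ^ m * (PicGrp.cls L hL)⁻¹ → (Curv2.euler k A.left W : ℚ) = q.eval (m : ℚ) := by
    intro m W hW h
    rw [hev, hP ![m, 1] W hW (by simpa [Fin.prod_univ_two, hDc] using h)]
    refine congrArg (fun f => MvPolynomial.eval f P) (funext fun i => ?_)
    fin_cases i <;> simp
  have hsq : p = Polynomial.C (p.eval 1) * Polynomial.X ^ g := by
    refine Polynomial.eq_of_infinite_eval_eq _ _ (Set.Infinite.mono ?_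
      ((Set.Ici_infinite 1).image (f := fun n : ℕ => (((n * n : ℕ)) : ℚ)) (fun a _ b _ h => by
        exact Nat.mul_self_inj.1 (Nat.cast_injective (R := ℚ) h))))
    rintro _ ⟨n, hn, rfl⟩
    show p.eval _ = Polynomial.eval _ _
    rw [← hp (n * n) _ (M2.isInvertible_tensorPow hL _) (Subtype.ext (by rw [PicGrp.cls_pow_val, PicGrp.cls_val])),
      euler_sq_pow hL hnd hg hn, Polynomial.eval_mul, Polynomial.eval_C, Polynomial.eval_pow, Polynomial.eval_X,
      ← Nat.cast_one, ← hp 1 L hL (pow_one _).symm]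
    push_cast
    ring
  have hshift : q = p.comp (Polynomial.X - 1) := by
    refine poly_ext 1 fun m hm => ?_
    obtain ⟨j, rfl⟩ : ∃ j, m = j + 1 := ⟨m - 1, by omega⟩
    rw [← hq (j + 1) _ (M2.isInvertible_tensorPow hL j) (by
      rw [pow_succ, mul_inv_cancel_right]
      exact Subtype.ext (by rw [PicGrp.cls_pow_val, PicGrp.cls_val])), Polynomial.eval_comp,
      hp j _ (M2.isInvertible_tensorPow hL j) (Subtype.ext (by rw [PicGrp.cls_pow_val, PicGrp.cls_val]))]
    simp
  have h0 := hq 0 D hD (by rw [pow_zero, _root_.one_mul, hDc])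
  rw [hshift, Polynomial.eval_comp, Polynomial.eval_sub, Polynomial.eval_X, Polynomial.eval_one, hsq,
    Polynomial.eval_mul, Polynomial.eval_C, Polynomial.eval_pow, Polynomial.eval_X, ← Nat.cast_one,
    ← hp 1 L hL (pow_one _).symm] at h0
  have h2 : (Curv2.euler k A.left D : ℚ) = (Curv2.euler k A.left L : ℚ) * (-1) ^ g := by
    simpa using h0
  rw [mul_comm]
  exact_mod_cast h2

end Groth.Agent.RR22
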