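import Groth.Agent.Lib.Poincare22.Restrict
import Groth.Agent.Lib.Index22.Concentrated

/-!
# Euler characteristics of locally isomorphic families with finitely many bad fibres
-/

universe u

open CategoryTheory CategoryTheory.Limits AlgebraicGeometry TopologicalSpace Opposite

set_option linter.style.haveILetI false
set_option linter.unusedSectionVars false
set_option maxHeartbeats 1000000
set_option backward.isDefEq.respectTransparency false

noncomputable section

namespace Groth.Agent.RR22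

open Groth.Agent.CohFound Groth.Agent.CBC10 Groth.Agent.MumVan22

/-- Restriction to the two pieces is bijective when the overlap is acyclic. -/
theorem rs_pair_bijective {T : TopCat.{u}} {G : CohTop.Ab T} {U V : Opens T}
    (hI : ∀ n, Subsingleton (Hc G n (U ⊓ V))) (n : ℕ) :
    Function.Bijective ((rs G n (le_sup_left : U ≤ U ⊔ V)).prod (rs G n (le_sup_right : V ≤ U ⊔ V))) := by
  refine ⟨(injective_iff_map_eq_zero _).2 fun x hx => ?_, fun ⟨y, z⟩ => ?_⟩
  · have e1 : rs G n (le_sup_left : U ≤ U ⊔ V) x = 0 := congrArg Prod.fst hx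
    have e2 : rs G n (le_sup_right : V ≤ U ⊔ V) x = 0 := congrArg Prod.snd hx
    cases n with
    | zero =>
      refine (hc0 G _).injective ?_
      rw [map_zero]
      exact TopCat.Sheaf.eq_of_locally_eq₂ G (homOfLE le_sup_left) (homOfLE le_sup_right) le_rfl _ _
        (((hc0_rs _ _ x).symm.trans (by rw [e1, map_zero])).trans (map_zero _).symm)
        (((hc0_rs _ _ x).symm.trans (by rw [e2, map_zero])).trans (map_zero _).symm)
    | succ m =>
      obtain ⟨v, hv⟩ := mv_exact x e1 e2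
      rw [← hv, (hI m).elim v 0, map_zero]
  · obtain ⟨x, hx, hx'⟩ := mv_glue y z ((hI n).elim _ _)
    exact ⟨x, Prod.ext hx hx'⟩

variable {X : Scheme.{u}} {F F' : X.Modules}

/-- Cohomology over `V` is the same, compatibly with global functions. -/
def EqOn (F F' : X.Modules) (n : ℕ) (V : X.Opens) : Prop :=
  ∃ e : Hc ((abF X).obj F) n V ≃+ Hc ((abF X).obj F') n V,
    ∀ (r : Γ(X, ⊤)) x, e (gMul F r n V x) = gMul F' r n V (e x)

theorem eqOn_of_iso {O : X.Opens} (i : F.restrict O.ι ≅ F'.restrict O.ι) (n : ℕ) {V : X.Opens} (hV : V ≤ O) :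
    EqOn F F' n V := by
  have hi : O.ι ''ᵁ (O.ι ⁻¹ᵁ V) = V := by
    rw [Scheme.Hom.image_preimage_eq_opensRange_inf, Scheme.Opens.opensRange_ι, inf_eq_right.2 hV]
  suffices EqOn F F' n (O.ι ''ᵁ (O.ι ⁻¹ᵁ V)) by rwa [hi] at this
  obtain ⟨ε, hε⟩ := Poincare22.exists_hc_resEmb_commute (isOpenEmbedding_base O.ι) ((abF X).obj F) n (O.ι ⁻¹ᵁ V)
  obtain ⟨ε', hε'⟩ := Poincare22.exists_hc_resEmb_commute (isOpenEmbedding_base O.ι) ((abF X).obj F') n (O.ι ⁻¹ᵁ V)
  let m : Hc ((abF O.toScheme).obj (F.restrict O.ι)) n (O.ι ⁻¹ᵁ V) ≃+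
      Hc ((abF O.toScheme).obj (F'.restrict O.ι)) n (O.ι ⁻¹ᵁ V) :=
    mpEquiv ((abF O.toScheme).mapIso i) n _
  refine ⟨(ε.symm.trans m).trans ε', fun r x => ?_⟩
  obtain ⟨y, rfl⟩ := ε.surjective x
  have h1 : ε.symm (gMul F r n _ (ε y)) = gMul (F.restrict O.ι) (O.ι.appTop r) n _ y := by
    refine ε.symm_apply_eq.2 ?_
    show _ = ε (mp (gEnd (F.restrict O.ι) (O.ι.appTop r)) n _ y)
    rw [Poincare22.gEnd_restrict]
    exact (hε (gEnd F r) y).symm
  show ε' (m (ε.symm (gMul F r n _ (ε y)))) = gMul F' r n _ (ε' (m (ε.symm (ε y))))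
  rw [h1, AddEquiv.symm_apply_apply]
  have h2 : m (gMul (F.restrict O.ι) (O.ι.appTop r) n _ y) = gMul (F'.restrict O.ι) (O.ι.appTop r) n _ (m y) :=
    ((mp_comp _ _ n _ y).symm.trans (congrArg (fun φ => mp φ n _ y)
      (CurveCoh17.smulF_natural i.hom (O.ι.appTop r)))).trans (mp_comp _ _ n _ y)
  rw [h2]
  show ε' (mp (gEnd (F'.restrict O.ι) (O.ι.appTop r)) n _ (m y)) = _
  rw [Poincare22.gEnd_restrict]
  exact hε' (gEnd F' r) (m y)

theorem EqOn.subsingleton_iff {n : ℕ} {V : X.Opens} (h : EqOn F F' n V) :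
    Subsingleton (Hc ((abF X).obj F) n V) ↔ Subsingleton (Hc ((abF X).obj F') n V) :=
  h.choose.toEquiv.subsingleton_congr

theorem eqOn_of_subsingleton {n : ℕ} {V : X.Opens} (h : Subsingleton (Hc ((abF X).obj F) n V))
    (h' : Subsingleton (Hc ((abF X).obj F') n V)) : EqOn F F' n V :=
  ⟨{ toFun := fun _ => 0, invFun := fun _ => 0, left_inv := fun _ => h.elim _ _, right_inv := fun _ => h'.elim _ _,
     map_add' := fun _ _ => h'.elim _ _ }, fun _ _ => h'.elim _ _⟩

theorem eqOn_sup {n : ℕ} {U V : X.Opens} (hU : EqOn F F' n U) (hV : EqOn F F' n V)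
    (hI : ∀ m, Subsingleton (Hc ((abF X).obj F) m (U ⊓ V)))
    (hI' : ∀ m, Subsingleton (Hc ((abF X).obj F') m (U ⊓ V))) : EqOn F F' n (U ⊔ V) := by
  obtain ⟨a, ha⟩ := hU
  obtain ⟨b, hb⟩ := hV
  let p := AddEquiv.ofBijective _ (rs_pair_bijective (G := (abF X).obj F) hI n)
  let p' := AddEquiv.ofBijective _ (rs_pair_bijective (G := (abF X).obj F') hI' n)
  refine ⟨(p.trans (AddEquiv.prodCongr a b)).trans p'.symm, fun r x => p'.injective ?_⟩
  show p' (p'.symm _) = p' (gMul F' r n _ (p'.symm _))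
  rw [AddEquiv.apply_symm_apply]
  have k1 : p' (gMul F' r n _ (p'.symm ((AddEquiv.prodCongr a b) (p x)))) =
      Prod.map (gMul F' r n U) (gMul F' r n V) (p' (p'.symm ((AddEquiv.prodCongr a b) (p x)))) :=
    Prod.ext (mp_rs (gEnd F' r) n _ _).symm (mp_rs (gEnd F' r) n _ _).symm
  refine Eq.trans ?_ k1.symm
  rw [AddEquiv.apply_symm_apply]
  exact Prod.ext ((congrArg a (mp_rs (gEnd F r) n _ _).symm).trans (ha r _))
    ((congrArg b (mp_rs (gEnd F r) n _ _).symm).trans (hb r _))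

variable {Y : Scheme.{u}} (f : X ⟶ Y) [IsProper f]

/-- The Euler characteristics of two locally isomorphic families with finitely many bad fibres agree. -/
theorem euler_eq_of_local {k : Type u} [Field k] [X.Over (Spec (CommRingCat.of k))] [IsNoetherian Y]
    (hF : Coh.IsCoh F) (hF' : Coh.IsCoh F') (hfl : FlatMod.IsFlatOver f F) (hfl' : FlatMod.IsFlatOver f F')
    (g : ℕ) (hreg : ∀ y : Y, IsClosed ({y} : Set Y) → IsRegularLocalRing (Y.presheaf.stalk y))
    (hg : ∀ y : Y, IsClosed ({y} : Set Y) → ringKrullDim (Y.presheaf.stalk y) = g)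
    (hdim : ∀ w : Y, topologicalKrullDim ↥(f ⁻¹' {w} : Set X) ≤ (g : WithBot ℕ∞))
    {S : Set Y} (hS : S.Finite) (hSc : ∀ s ∈ S, IsClosed ({s} : Set Y))
    (h : ∀ y ∉ S, ∀ p, Subsingleton (CohIII.fiberH f F y p))
    (hloc : ∀ y : Y, ∃ W : Y.Opens, y ∈ W ∧ Nonempty (F.restrict (f ⁻¹ᵁ W).ι ≅ F'.restrict (f ⁻¹ᵁ W).ι)) :
    Curv2.euler k X F = Curv2.euler k X F' := by
  classical
  have hclosed : ∀ T : Set Y, T ⊆ S → IsClosed T := fun T hT => by
    rw [← Set.biUnion_of_singleton T]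
    exact (hS.subset hT).isClosed_biUnion fun s hs => hSc s (hT hs)
  let O : Y.Opens := ⟨Sᶜ, (hclosed S subset_rfl).isOpen_compl⟩
  have h' : ∀ y ∉ S, ∀ p, Subsingleton (CohIII.fiberH f F' y p) := fun y hy p => by
    obtain ⟨W, hyW, ⟨i⟩⟩ := hloc y
    obtain ⟨U, hU, hyU, hUle⟩ := exists_isAffineOpen_mem_and_subset (X := Y) (x := y) (U := W ⊓ O) ⟨hyW, hy⟩
    have hv := van_of_fibres f hF hfl hU fun z hz q => h z (hUle hz).2 q
    refine fibres_of_van f hF' hfl' hU (fun n => ?_) hyU p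
    exact (eqOn_of_iso i n (f.preimage_mono (hUle.trans inf_le_left))).subsingleton_iff.1 (hv n)
  have good : ∀ U : Y.Opens, U ≤ O → Van f F U ∧ Van f F' U := fun U hU =>
    ⟨van_of_fibres_qc f hF hfl (fun y hy => h y hy) (NoetherianSpace.isCompact _) hU,
      van_of_fibres_qc f hF' hfl' (fun y hy => h' y hy) (NoetherianSpace.isCompact _) hU⟩
  have main : ∀ T : Finset Y, ∀ U : Y.Opens, (U : Set Y) ∩ S ⊆ T → EqOn F F' g (f ⁻¹ᵁ U) := by
    intro T
    induction T using Finset.induction_on with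
    | empty =>
      intro U hU
      obtain ⟨h1, h2⟩ := good U fun y hy hyS => by simpa using hU ⟨hy, hyS⟩
      exact eqOn_of_subsingleton (h1 g) (h2 g)
    | insert s T hsT ih =>
      intro U hU
      by_cases hsU : s ∈ U ∧ s ∈ S
      swap
      · refine ih U fun y hy => ?_
        rcases Finset.mem_insert.1 (hU hy) with rfl | hy'
        · exact absurd hy hsU
        · exact hy'
      obtain ⟨W₀, hsW₀, ⟨i⟩⟩ := hloc s
      let W : Y.Opens := W₀ ⊓ U ⊓ ⟨(S \ {s})ᶜ, (hclosed _ Set.diff_subset).isOpen_compl⟩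
      have hsW : s ∈ W := ⟨⟨hsW₀, hsU.1⟩, fun hh => hh.2 rfl⟩
      let U' : Y.Opens := U ⊓ ⟨{s}ᶜ, (hSc s hsU.2).isOpen_compl⟩
      have hU' : EqOn F F' g (f ⁻¹ᵁ U') := ih U' fun y hy => by
        rcases Finset.mem_insert.1 (hU ⟨hy.1.1, hy.2⟩) with rfl | hy'
        · exact absurd rfl hy.1.2
        · exact hy'
      have hW' : EqOn F F' g (f ⁻¹ᵁ W) := eqOn_of_iso i g (f.preimage_mono (inf_le_left.trans inf_le_left))
      obtain ⟨hI, hI'⟩ := good (U' ⊓ W) fun y hy hyS => hy.2.2 ⟨hyS, hy.1.2⟩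
      have heq : U' ⊔ W = U := le_antisymm (sup_le inf_le_left (inf_le_left.trans inf_le_right)) fun y hy => by
        by_cases hys : y = s
        · exact Or.inr (hys ▸ hsW)
        · exact Or.inl ⟨hy, hys⟩
      rw [← heq, Scheme.Hom.preimage_sup]
      exact eqOn_sup hU' hW' (fun m => by have := hI m; rwa [Scheme.Hom.preimage_inf] at this)
        (fun m => by have := hI' m; rwa [Scheme.Hom.preimage_inf] at this)
  refine finsum_congr fun n => congrArg (fun m : ℕ => (-1 : ℤ) ^ n * (m : ℤ)) ?_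
  rcases eq_or_ne n g with rfl | hn
  · obtain ⟨e, he⟩ : EqOn F F' n (⊤ : X.Opens) := main hS.toFinset ⊤ (by simp)
    let E : Coh.HH X F n ≃+ Coh.HH X F' n := ((hhExt F n).trans e).trans (hhExt F' n).symm
    refine LinearEquiv.finrank_eq (E.toLinearEquiv fun c x => (hhExt F' n).injective ?_)
    show hhExt F' n ((hhExt F' n).symm (e (hhExt F n (Coh.toGlobal (X ↘ Spec (CommRingCat.of k)) c • x)))) =
      hhExt F' n (Coh.toGlobal (X ↘ Spec (CommRingCat.of k)) c • (hhExt F' n).symm (e (hhExt F n x)))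
    rw [AddEquiv.apply_symm_apply, CurveCoh17.hhExt_smul, CurveCoh17.hhExt_smul, AddEquiv.apply_symm_apply]
    exact he _ _
  · haveI := Index22.subsingleton_HH_of_finite f hF hfl g hreg hg hdim hS hSc h hn
    haveI := Index22.subsingleton_HH_of_finite f hF' hfl' g hreg hg hdim hS hSc h' hn
    rw [Module.finrank_zero_of_subsingleton, Module.finrank_zero_of_subsingleton]

end Groth.Agent.RR22
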