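import Groth.Agent.Lib.RR22.Mumford
import Groth.Agent.Lib.RR22.Twist
import Groth.Agent.Lib.RR22.Poly
import Groth.Agent.Lib.Poincare22.Global

/-!
# `χ(L)² = deg φ_L`
-/

universe u

open CategoryTheory Limits MonoidalCategory CartesianMonoidalCategory AlgebraicGeometry TopologicalSpace Opposite
open scoped MonObj GrpObj

set_option linter.style.haveILetI false
set_option linter.unusedSectionVars false
set_option maxHeartbeats 1000000
set_option backward.isDefEq.respectTransparency false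

noncomputable section

namespace Groth.Agent.RR22

open Groth.Agent.AlgEquiv22 Groth.Agent.MumVan22 Groth.Agent.AbDual21 Groth.Agent.PicDesc21

noncomputable local instance instLawRR (Y : Scheme.{u}) : PicGrp.Law Y := M2.law Y

variable {k : Type u} [Field k] {A At : Over (Spec (CommRingCat.of k))} [GrpObj A] [GrpObj At]
  [IsProper A.hom] [Smooth A.hom] [GeometricallyConnected A.hom]
  [IsProper At.hom] [Smooth At.hom] [GeometricallyConnected At.hom]
  {φ : ∀ T : Over (Spec (CommRingCat.of k)), PicF.Cl (PicF.XT A.hom T) → (T ⟶ At)}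
  (hφ : AbDual.IsDualAV Scheme.fppfPrecoverage A At φ)

include hφ in
/-- The Euler characteristic of a Poincaré module. -/
theorem euler_poincare {P : (PicF.XT A.hom At).Modules} (hP : PicF.IsInvertible P)
    (hξ : AbDual.IsPoincareCl A At φ (PicF.cl P)) {g : ℕ} (hg : topologicalKrullDim A.left = g)
    [HasInjectiveResolutions (A ⊗ At).left.Modules] :
    @Curv2.euler k _ (A ⊗ At).left ⟨(A ⊗ At).hom⟩ P = (-1) ^ g := by
  haveI : GeometricallyIntegral A.hom := AbRigid.geometricallyIntegral_of_smooth A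
  haveI : GeometricallyIntegral At.hom := AbRigid.geometricallyIntegral_of_smooth At
  letI : (A ⊗ At).left.Over (Spec (CommRingCat.of k)) := ⟨(A ⊗ At).hom⟩
  obtain ⟨h0, h1, -, -⟩ := Poincare22.main hφ hP hξ hg
  unfold Curv2.euler
  rw [finsum_eq_single _ g fun n hn => by
    haveI := h0 n hn
    rw [Module.finrank_zero_of_subsingleton, Nat.cast_zero, MulZeroClass.mul_zero]]
  exact (congrArg (fun m : ℕ => (-1 : ℤ) ^ g * (m : ℤ)) h1).trans (by simp)

theorem finrank_whiskerLeft {A B C : Over (Spec (CommRingCat.of k))} (f : B ⟶ C) [IsFinite f.left] [Flat f.left]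
    {d : ℕ} (hd : ∀ y : C.left, f.left.finrank y = d) :
    IsFinite (A ◁ f).left ∧ Flat (A ◁ f).left ∧ ∀ y : (A ⊗ C).left, (A ◁ f).left.finrank y = d := by
  have hpb : IsPullback (snd A B).left (A ◁ f).left f.left (snd A C).left := by
    refine IsPullback.of_bot ?_ (congrArg CommaMorphism.left (whiskerLeft_snd A f)).symm
      (IsPullback.of_hasPullback A.hom C.hom).flip
    have h1 : (A ◁ f).left ≫ pullback.fst A.hom C.hom = pullback.fst A.hom B.hom :=
      congrArg CommaMorphism.left (whiskerLeft_fst A f)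
    rw [Over.w f, h1]
    exact (IsPullback.of_hasPullback A.hom B.hom).flip
  refine ⟨MorphismProperty.of_isPullback hpb inferInstance, MorphismProperty.of_isPullback hpb inferInstance, fun y => ?_⟩
  rw [Scheme.Hom.finrank_of_isPullback _ _ _ _ hpb y, hd]

variable [IsAlgClosed k] {Λ : (PicF.XT A.hom A).Modules} (hΛ0 : AbDual.IsPicZeroCl A.hom A (PicF.cl Λ))
  {L : A.left.Modules} (hL : PicF.IsInvertible L) (hΛc : PicF.cl Λ = (mumC (PicGrp.cls L hL)).1)
  [IsFinite (φ A (PicF.cl Λ)).left]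

include hφ hΛ0 hΛc in
/-- The class is non-degenerate. -/
theorem nd_of_isFinite : Index22.Nd (PicGrp.cls L hL) := by
  set f := φ A (PicF.cl Λ)
  refine Set.Finite.of_finite_image (f := CubeField.rpt) ?_ CubeField.rpt_injective.injOn
  refine ((f.left).finite_preimage_singleton (CubeField.rpt (1 : 𝟙_ _ ⟶ At))).subset ?_
  rintro _ ⟨y, hy, rfl⟩
  show f.left (CubeField.rpt y) = _
  rw [← CubeField.rpt_comp, comp_phi_eq_one hφ hΛ0 hΛc hy]

variable [Flat (φ A (PicF.cl Λ)).left] {d : ℕ} (hd : ∀ y : At.left, (φ A (PicF.cl Λ)).left.finrank y = d)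

include hφ hΛ0 hd in
/-- The Euler characteristic of the Mumford module. -/
theorem euler_mumford {g : ℕ} (hg : topologicalKrullDim A.left = g) (hΛi : PicF.IsInvertible Λ)
    {c : PicLoc.PicSet A.left} (hc : PicF.cl Λ = (mumC c).1) :
    @Curv2.euler k _ (A ⊗ A).left ⟨(A ⊗ A).hom⟩ Λ = (-1) ^ g * (d : ℤ) := by
  haveI : GeometricallyIntegral A.hom := AbRigid.geometricallyIntegral_of_smooth A
  haveI : GeometricallyIntegral At.hom := AbRigid.geometricallyIntegral_of_smooth At
  haveI : IsProper (A ⊗ A).hom := inferInstanceAs (IsProper (pullback.fst A.hom A.hom ≫ A.hom))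
  haveI : IsProper (A ⊗ At).hom := inferInstanceAs (IsProper (pullback.fst A.hom At.hom ≫ A.hom))
  haveI : GeometricallyIntegral (A ⊗ A).hom := AbRigid.geometricallyIntegral_tensorObj A A
  haveI : GeometricallyIntegral (A ⊗ At).hom := AbRigid.geometricallyIntegral_tensorObj A At
  set f := φ A (PicF.cl Λ) with hf
  obtain ⟨ξ, hξ⟩ := exists_poincare hφ
  obtain ⟨P, rfl, hP⟩ := picZero_invertible hξ.1
  obtain ⟨hfin, hflat, hrk⟩ := finrank_whiskerLeft (A := A) f hd
  obtain ⟨i⟩ := (PicGrp.cl_eq_cl_iff _ _).1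
    ((cl_eq_pull_poincare hφ hΛ0 hc hξ).trans (PicLoc.pullCl_cl (A ◁ f).left P))
  letI : (A ⊗ A).left.Over (Spec (CommRingCat.of k)) := ⟨(A ⊗ A).hom⟩
  rw [CurveCoh17.euler_iso (X := (A ⊗ A).left) i, IsogEuler22.euler_pullback (A ◁ f) d hrk (CubeField.isCoh_of_isInvertible hP),
    euler_poincare hφ hP hξ hg, mul_comm]

include hφ hΛ0 hΛc hd in
/-- `χ(L)² = deg φ_L`. -/
theorem euler_sq {g : ℕ} (hg : topologicalKrullDim A.left = g) :
    @Curv2.euler k _ A.left ⟨A.hom⟩ L ^ 2 = (d : ℤ) := by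
  haveI : GeometricallyIntegral A.hom := AbRigid.geometricallyIntegral_of_smooth A
  set c := PicGrp.cls L hL with hcdef
  have hnd : Index22.Nd c := nd_of_isFinite hφ hΛ0 hL hΛc
  obtain ⟨D, hD, hDc⟩ := PicGrp.exists_eq_cls c⁻¹
  replace hDc := hDc.symm
  have hΛi : PicF.IsInvertible Λ := by
    obtain ⟨L₀, hL₀, hi⟩ := picZero_invertible hΛ0
    exact Twist.isInvertible_of_iso ((PicGrp.cl_eq_cl_iff _ _).1 hL₀).some hi
  haveI : IsFinite (𝟙 A : A ⟶ A).left := by rw [Over.id_left]; infer_instance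
  haveI : Flat (𝟙 A : A ⟶ A).left := by rw [Over.id_left]; infer_instance
  haveI : Surjective (𝟙 A : A ⟶ A).left := by rw [Over.id_left]; infer_instance
  haveI := Index22.isIso_shear (𝟙 A)
  haveI : IsIso (Index22.shear (𝟙 A)).left := inferInstanceAs (IsIso ((Over.forget _).map (Index22.shear (𝟙 A))))
  letI : (A ⊗ A).left.Over (Spec (CommRingCat.of k)) := ⟨(A ⊗ A).hom⟩
  haveI : IsProper (A ⊗ A).hom := inferInstanceAs (IsProper (pullback.fst A.hom A.hom ≫ A.hom))
  haveI : GeometricallyIntegral (A ⊗ A).hom := AbRigid.geometricallyIntegral_tensorObj A A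
  haveI : IsProper (snd A A).left := inferInstanceAs (IsProper (pullback.snd A.hom A.hom))
  haveI : Flat (snd A A).left := AbRigid.flat_snd_left A A
  haveI : IsLocallyNoetherian A.left := LocallyOfFiniteType.isLocallyNoetherian A.hom
  haveI : CompactSpace A.left := QuasiCompact.compactSpace_of_compactSpace A.hom
  haveI : IsNoetherian A.left := {}
  obtain ⟨T, hT, hTc⟩ := PicGrp.exists_eq_cls (pb (fst A A) c⁻¹ * pb (snd A A) c)
  replace hTc := hTc.symm
  have hT' : @Curv2.euler k _ (A ⊗ A).left ⟨(A ⊗ A).hom⟩ T =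
      @Curv2.euler k _ A.left ⟨A.hom⟩ D * @Curv2.euler k _ A.left ⟨A.hom⟩ L :=
    euler_box hD hL hT (by rw [hTc, hDc])
  set M := (Scheme.Modules.pullback (Index22.shear (𝟙 A)).left).obj T
  have hM : PicF.IsInvertible M := PicLoc.isInvertible_pullback _ hT
  have hMc : PicGrp.cls M hM = Index22.pairClass (𝟙 A) c := by
    rw [show PicGrp.cls M hM = pb (Index22.shear (𝟙 A)) (PicGrp.cls T hT) from (PicGrp.pullHom_cls _ _ _ _).symm, hTc]
    simp only [Index22.pairClass, Index22.shear, map_mul, map_inv, pb_pb, lift_fst, lift_snd, Category.comp_id, pb_id]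
    exact mul_comm _ _
  have hMe : @Curv2.euler k _ (A ⊗ A).left ⟨(A ⊗ A).hom⟩ M = @Curv2.euler k _ (A ⊗ A).left ⟨(A ⊗ A).hom⟩ T := by
    rw [IsogEuler22.euler_pullback (Index22.shear (𝟙 A)) 1
      (fun y => congrFun (Scheme.Hom.finrank_eq_one_of_isIso _) y) (CubeField.isCoh_of_isInvertible hT),
      Nat.cast_one, _root_.one_mul]
  have hMΛ : pb (snd A A) c * (PicGrp.cls Λ hΛi : PicLoc.PicSet (A ⊗ A).left) = PicGrp.cls M hM := by
    rw [hMc, show (PicGrp.cls Λ hΛi : PicLoc.PicSet (A ⊗ A).left) = mumC c from Subtype.ext hΛc]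
    simp only [mumC, Index22.pairClass, Category.comp_id, pb_id]
    rw [mul_comm, inv_mul_cancel_right]
  have hloc : ∀ y : A.left, ∃ W : A.left.Opens, y ∈ W ∧
      Nonempty (M.restrict ((snd A A).left ⁻¹ᵁ W).ι ≅ Λ.restrict ((snd A A).left ⁻¹ᵁ W).ι) := by
    intro y
    obtain ⟨W, hyW, ⟨iW⟩⟩ := hL y
    refine ⟨W, hyW, ?_⟩
    let ι' := ((snd A A).left ⁻¹ᵁ W).ι
    suffices h : PicF.pullCl ι' (PicF.cl M) = PicF.pullCl ι' (PicF.cl Λ) by
      rw [PicLoc.pullCl_cl, PicLoc.pullCl_cl] at h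
      exact ⟨(Scheme.Modules.restrictFunctorIsoPullback ι').app M ≪≫ ((PicGrp.cl_eq_cl_iff _ _).1 h).some ≪≫
        ((Scheme.Modules.restrictFunctorIsoPullback ι').app Λ).symm⟩
    have h1 := congrArg Subtype.val hMΛ
    rw [PicGrp.mul_val, PicGrp.cls_val, PicGrp.cls_val] at h1
    have h2 : PicF.pullCl ι' (pb (snd A A) c).1 = PicF.cl (Coh.structureModule _) := by
      show PicF.pullCl ι' (PicF.pullCl (snd A A).left (PicF.cl L)) = _
      rw [pullCl_pullCl, show ι' ≫ (snd A A).left = (snd A A).left ∣_ W ≫ W.ι from (morphismRestrict_ι _ _).symm,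
        ← pullCl_pullCl, PicLoc.pullCl_cl W.ι L,
        (PicGrp.cl_eq_cl_iff _ _).2 ⟨((Scheme.Modules.restrictFunctorIsoPullback W.ι).app L).symm ≪≫ iW⟩,
        pullCl_structure]
    rw [← h1, pullCl_mulCl, h2, M2.one_mulCl]
  have key := euler_eq_of_local (k := k) (F := M) (F' := Λ) (snd A A).left (CubeField.isCoh_of_isInvertible hM)
    (CubeField.isCoh_of_isInvertible hΛi) (isFlatOver_proj (snd A A) hM) (isFlatOver_proj (snd A A) hΛi) g
    (fun y _ => SmoothReg17.isRegularLocalRing_stalk A.hom y)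
    (fun y hy => (GrpField.ringKrullDim_stalk_eq A y hy).trans hg)
    (fun w => le_of_eq ((Index22.dim_fibre_snd w).trans hg))
    ((Index22.finite_bad (𝟙 A) (c := c) (by rwa [pb_id])).image CubeField.rpt)
    (by rintro _ ⟨y, -, rfl⟩; exact isClosed_rpt y)
    (Index22.fibres_outside (𝟙 A) (by rwa [pb_id]) hM hMc) hloc
  rw [hMe, hT', euler_inverse hL hnd hD hDc hg, euler_mumford hφ hΛ0 hd hg hΛi hΛc, mul_assoc] at key
  have := mul_left_cancel₀ (pow_ne_zero g (by norm_num : (-1 : ℤ) ≠ 0)) key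
  rw [sq, this]

end Groth.Agent.RR22

end
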