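import Groth.Agent.Lib.RigDesc22.RelPic
import Groth.Agent.Lib.KernelKL22.Poincare
import Groth.Agent.Lib.Index22.Index
import Groth.Agent.Lib.AbRigid.Hom

/-!
# The Mumford class and the morphism it defines
-/

universe u

open CategoryTheory Limits MonoidalCategory CartesianMonoidalCategory AlgebraicGeometry TopologicalSpace Opposite
open scoped MonObj GrpObj

set_option linter.style.haveILetI false
set_option linter.unusedSectionVars false
set_option backward.isDefEq.respectTransparency false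

noncomputable section

namespace Groth.Agent.RR22

open Groth.Agent.AlgEquiv22 Groth.Agent.MumVan22 Groth.Agent.AbDual21 Groth.Agent.PicDesc21

noncomputable local instance instLawMum (Y : Scheme.{u}) : PicGrp.Law Y := M2.law Y

variable {k : Type u} [Field k] {A At : Over (Spec (CommRingCat.of k))} [GrpObj A] [GrpObj At]
  [IsProper A.hom] [Smooth A.hom] [GeometricallyConnected A.hom] [IsProper At.hom]
  {φ : ∀ T : Over (Spec (CommRingCat.of k)), PicF.Cl (PicF.XT A.hom T) → (T ⟶ At)}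
  (hφ : AbDual.IsDualAV Scheme.fppfPrecoverage A At φ)

include hφ in
/-- A Poincaré class exists. -/
theorem exists_poincare : ∃ ξ, AbDual.IsPoincareCl A At φ ξ := by
  obtain ⟨c, hc, ht, h⟩ := RigDesc22.exists_rig A.hom η[A].left (Over.w η[A]) (RigDesc22.good_picZero A.hom)
    hφ.relPic.natural hφ.relPic.locallySurjective hφ.relPic.locallyInjective
    (fun U τ => AbDual21.bijective_appTop_snd A U τ) At (𝟙 At)
  exact ⟨c, hc, h, ht⟩

/-- A class on a point is trivial. -/
theorem pb_point (y : 𝟙_ (Over (Spec (CommRingCat.of k))) ⟶ A) (c : PicLoc.PicSet A.left) : pb y c = 1 :=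
  Subtype.ext (isTrivialCl_spec_field (isInvertibleCl_pull y.left c.2))

/-- The class of a Mumford module. -/
abbrev mumC (c : PicLoc.PicSet A.left) : PicLoc.PicSet (A ⊗ A).left :=
  pb (fst A A * snd A A) c * (pb (fst A A) c)⁻¹ * (pb (snd A A) c)⁻¹

theorem pb_sl_mumC (c : PicLoc.PicSet A.left) (y : 𝟙_ (Over (Spec (CommRingCat.of k))) ⟶ A) :
    pb (sl A y) (mumC c) = pb (𝟙 A * (toUnit A ≫ y)) c * c⁻¹ := by
  simp only [mumC, map_mul, map_inv, pb_pb, MonObj.comp_mul, lift_fst, lift_snd, pb_id]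
  rw [← pb_pb (toUnit A) y, pb_point, map_one, inv_one, _root_.mul_one]

/-- The class of a module isomorphic to the Mumford module. -/
theorem cl_mumford {L : A.left.Modules} (hL : PicF.IsInvertible L) {L' : A.left.Modules}
    (hL' : Nonempty (CohB1.tensorMod L L' ≅ Coh.structureModule A.left))
    {Λ : (PicF.XT A.hom A).Modules}
    (hΛ : Nonempty (Λ ≅ CohB1.tensorMod (CohB1.tensorMod ((Scheme.Modules.pullback μ[A].left).obj L)
      ((Scheme.Modules.pullback (fst A A).left).obj L')) ((Scheme.Modules.pullback (snd A A).left).obj L'))) :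
    PicF.cl Λ = (mumC (PicGrp.cls L hL)).1 := by
  set c := PicGrp.cls L hL with hc
  have h1 : PicGrp.mulCl (PicF.cl L) (PicF.cl L') = PicF.cl (Coh.structureModule A.left) :=
    (PicGrp.mulCl_cl L L').trans ((PicGrp.cl_eq_cl_iff _ _).2 hL')
  have h2 : PicGrp.mulCl (c⁻¹).1 (PicF.cl L) = PicF.cl (Coh.structureModule A.left) := by
    have := congrArg Subtype.val (inv_mul_cancel c)
    rwa [PicGrp.mul_val, PicGrp.one_val, hc, PicGrp.cls_val] at this
  have h3 : PicF.cl L' = (c⁻¹).1 := by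
    rw [← M2.one_mulCl (PicF.cl L'), ← h2, M2.mulCl_assoc, h1, mulCl_one]
  have hμ : μ[A] = fst A A * snd A A := by rw [Hom.mul_def, lift_fst_snd, Category.id_comp]
  obtain ⟨e⟩ := hΛ
  simp only [mumC, ← map_inv, PicGrp.mul_val, ← hμ]
  rw [(PicGrp.cl_eq_cl_iff _ _).2 ⟨e⟩, ← PicGrp.mulCl_cl, ← PicGrp.mulCl_cl, ← PicLoc.pullCl_cl,
    ← PicLoc.pullCl_cl, ← PicLoc.pullCl_cl, h3]
  rfl

variable {Λ : (PicF.XT A.hom A).Modules} (hΛ0 : AbDual.IsPicZeroCl A.hom A (PicF.cl Λ)) {c : PicLoc.PicSet A.left}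
  (hΛc : PicF.cl Λ = (mumC c).1)

include hφ hΛ0 hΛc in
/-- A translation fixing the class is in the kernel of the morphism. -/
theorem comp_phi_eq_one {y : 𝟙_ (Over (Spec (CommRingCat.of k))) ⟶ A}
    (hy : pb (𝟙 A * (toUnit A ≫ y)) c = c) : y ≫ φ A (PicF.cl Λ) = 1 := by
  rw [← phi_natural hφ y hΛ0]
  have h : pb (A ◁ y) (mumC c) = 1 := by
    rw [show A ◁ y = (ρ_ A).hom ≫ sl A y by
      apply CartesianMonoidalCategory.hom_ext
      · simp [rightUnitor_hom]
      · simp only [whiskerLeft_snd, Category.assoc, lift_snd, comp_toUnit_assoc]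
        exact congrArg (· ≫ y) (toUnit_unique _ _), ← pb_pb, pb_sl_mumC, hy, mul_inv_cancel, map_one]
  have h' : PicF.pullCl (A ◁ y).left (PicF.cl Λ) = triv A _ := by
    rw [hΛc]; exact congrArg Subtype.val h
  rw [h', phi_one hφ]

include hφ hΛ0 hΛc in
theorem one_phi : η[A] ≫ φ A (PicF.cl Λ) = η[At] := by
  have h := comp_phi_eq_one (y := η[A]) hφ hΛ0 hΛc (by
    rw [show toUnit A ≫ η[A] = (1 : A ⟶ A) from Hom.one_def.symm, _root_.mul_one, pb_id])
  rw [h]
  rw [Hom.one_def, toUnit_unique (toUnit _) (𝟙 _), Category.id_comp]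

include hφ hΛ0 hΛc in
/-- The Mumford class is the pullback of a Poincaré class. -/
theorem cl_eq_pull_poincare {P : (PicF.XT A.hom At).Modules} (hξ : AbDual.IsPoincareCl A At φ (PicF.cl P)) :
    PicF.cl Λ = PicF.pullCl (A ◁ φ A (PicF.cl Λ)).left (PicF.cl P) := by
  haveI := AbRigid.geometricallyReduced_of_smooth A.hom
  set f := φ A (PicF.cl Λ)
  refine KernelKL22.eq_of_phi hφ hΛ0 (picZero_whisker f hξ.1) ?_ ?_
  · rw [phi_natural hφ f hξ.1, hξ.2.1, Category.comp_id]
  · have h1 : unitCl (PicF.cl Λ) = PicF.cl (Coh.structureModule A.left) := by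
      rw [unitCl, hΛc]
      refine congrArg Subtype.val (show pb (lift (1 : A ⟶ A) (𝟙 A)) (mumC c) = 1 from ?_)
      simp only [mumC, map_mul, map_inv, pb_pb, MonObj.comp_mul, lift_fst, lift_snd, _root_.one_mul, pb_id]
      rw [show (1 : A ⟶ A) = toUnit A ≫ η[A] from Hom.one_def, ← pb_pb, pb_point, map_one, inv_one,
        _root_.mul_one, mul_inv_cancel]
    have h2 : lift (1 : A ⟶ A) (𝟙 A) ≫ A ◁ f = f ≫ lift (1 : At ⟶ A) (𝟙 At) := by
      apply CartesianMonoidalCategory.hom_ext <;> simp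
    rw [h1, unitCl, pullCl_pullCl, ← Over.comp_left, h2, Over.comp_left, ← pullCl_pullCl]
    rw [show PicF.pullCl (lift (1 : At ⟶ A) (𝟙 At)).left (PicF.cl P) = PicF.cl (Coh.structureModule At.left) from
      KernelKL22.unitCl_poincare hφ hξ, pullCl_structure]

end Groth.Agent.RR22

end
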