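import Groth.Agent.Lib.Kunneth22.Shift
import Groth.Agent.Lib.MumVan22.Pull
import Groth.Agent.Lib.MumVan22.ChiTwist
import Groth.Agent.Lib.Poincare22.Local
import Groth.Agent.Lib.ModM1.Push
import Groth.Agent.Lib.ModM1.FT

/-!
# Euler characteristics of exterior products with an acyclic module
-/

universe u

open CategoryTheory CategoryTheory.Limits AlgebraicGeometry TopologicalSpace Opposite

set_option linter.style.haveILetI false
set_option linter.unusedSectionVars false
set_option maxHeartbeats 1000000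
set_option backward.isDefEq.respectTransparency false

noncomputable section

namespace Groth.Agent.RR22

open Groth.Agent.CohFound Groth.Agent.CBC10 CurveCoh17 Groth.Agent.Kunneth22 RigidRel Groth.Agent.AbDual21

variable {k : Type u} [Field k] {X Y Z : Scheme.{u}} [X.Over (Spec (CommRingCat.of k))]
  [Y.Over (Spec (CommRingCat.of k))] [Z.Over (Spec (CommRingCat.of k))] {p : Z ⟶ X} {q : Z ⟶ Y}

/-- The edge map is linear over the base field. -/
theorem pushEdge_smul (hq : q ≫ (Y ↘ Spec (CommRingCat.of k)) = Z ↘ Spec (CommRingCat.of k)) (M : Z.Modules) (n : ℕ)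
    (c : k) (x : Coh.HH Y ((Scheme.Modules.pushforward q).obj M) n) :
    CohPull.pushEdge q M n (c • x) = c • CohPull.pushEdge q M n x := by
  show CohPull.pushEdge q M n (Coh.toGlobal (Y ↘ Spec (CommRingCat.of k)) c • x) =
    Coh.toGlobal (Z ↘ Spec (CommRingCat.of k)) c • CohPull.pushEdge q M n x
  rw [pushEdge_eq, pushEdge_eq, MumVan22.pullF_smul]
  congr 1
  rw [← hq]
  rfl

/-- The global sections of the direct image to the base. -/
theorem nonempty_push_iso_free [QuasiCompact (X ↘ Spec (CommRingCat.of k))]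
    [QuasiSeparated (X ↘ Spec (CommRingCat.of k))] {C : X.Modules} (hC : Coh.IsQCoh C)
    [Module.Finite k (Coh.HH X C 0)] :
    Nonempty ((Scheme.Modules.pushforward (X ↘ Spec (CommRingCat.of k))).obj C ≅
      FlatMod.freeMod (Spec (CommRingCat.of k)) (Module.finrank k (Coh.HH X C 0))) := by
  let a : X ⟶ Spec (CommRingCat.of k) := X ↘ Spec (CommRingCat.of k)
  let N : (Spec (CommRingCat.of k)).Modules := (Scheme.Modules.pushforward a).obj C
  haveI : N.IsQuasicoherent := M1.isQCoh_push a hC
  haveI : IsIso (Scheme.Modules.fromTildeΓ (R := CommRingCat.of k) N) := Scheme.Modules.isIso_fromTildeΓ_of_isQuasicoherent (R := CommRingCat.of k) _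
  let r := Module.finrank k (Coh.HH X C 0)
  let b : Module.Basis (ULift.{u} (Fin r)) k (Coh.HH X C 0) := (Module.finBasis k _).reindex Equiv.ulift.symm
  let σ : (moduleSpecΓFunctor (R := CommRingCat.of k)).obj N ≃ₗ[k] Coh.HH X C 0 :=
    LinearEquiv.symm
      { (Poincare22.secEquiv C) with
        toFun := fun x => (Poincare22.secEquiv C x : Γ(C, ⊤))
        invFun := fun s => (Poincare22.secEquiv C).symm s
        map_smul' := fun c x => by
          refine (Poincare22.equiv₀_smul C c x).trans ?_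
          rw [RigidRel.ringMap_top]
          rfl }
  exact ⟨(asIso (Scheme.Modules.fromTildeΓ (R := CommRingCat.of k) N)).symm ≪≫
    (tilde.functor (CommRingCat.of k)).mapIso (LinearEquiv.toModuleIso
      (X₁ := (moduleSpecΓFunctor (R := CommRingCat.of k)).obj N)
      (X₂ := ULift.{u} (Fin r) →₀ k) (σ.trans b.repr)) ≪≫
    M1.frTildeIso (R := CommRingCat.of k) (ULift.{u} (Fin r)) ≪≫ (M1.freeModFrIso _ r).symm⟩

/-- The Künneth comparison as a linear map. -/
def toZLin (w : p ≫ (X ↘ Spec (CommRingCat.of k)) = q ≫ (Y ↘ Spec (CommRingCat.of k)))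
    (hq : q ≫ (Y ↘ Spec (CommRingCat.of k)) = Z ↘ Spec (CommRingCat.of k)) {G G' : Y.Modules}
    (e : CohB1.tensorMod G G' ≅ Coh.structureModule Y) (C : X.Modules) (n : ℕ) :
    Coh.HH Y ((OF (k := k) G).obj ((Scheme.Modules.pushforward (X ↘ Spec (CommRingCat.of k))).obj C)) n →ₗ[k]
      Coh.HH Z ((QF p q G).obj C) n where
  toFun := Kunneth22.toZ (k := k) p q w e C n
  map_add' x y := (congrArg (CohPull.pushEdge q _ n) (LinearMap.map_add _ x y)).trans (map_add _ _ _)
  map_smul' c x := (congrArg (CohPull.pushEdge q _ n) (LinearMap.map_smul _ c x)).trans (pushEdge_smul hq _ n c _)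

/-- Künneth for the Euler characteristic, one factor acyclic. -/
theorem euler_box_acyclic [IsProper (X ↘ Spec (CommRingCat.of k))] [IsProper (Y ↘ Spec (CommRingCat.of k))]
    (h : IsPullback p q (X ↘ Spec (CommRingCat.of k)) (Y ↘ Spec (CommRingCat.of k)))
    (hq : q ≫ (Y ↘ Spec (CommRingCat.of k)) = Z ↘ Spec (CommRingCat.of k))
    {G : Y.Modules} (hG : PicF.IsInvertible G) (hGc : Coh.IsCoh G) {C : X.Modules} (hC : Coh.IsCoh C)
    (hCa : ∀ n : ℕ, 0 < n → Subsingleton (Coh.HH X C n)) :
    Curv2.euler k Z (CohB1.tensorMod ((Scheme.Modules.pullback p).obj C) ((Scheme.Modules.pullback q).obj G)) =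
      Curv2.euler k X C * Curv2.euler k Y G := by
  obtain ⟨G', -, ⟨e⟩⟩ := M2.exists_inverse hG
  haveI : Module.Finite k (Coh.HH X C 0) := CohFound.finite_HH_of_isProper _ hC 0
  obtain ⟨i⟩ := nonempty_push_iso_free (k := k) hC.1
  set r := Module.finrank k (Coh.HH X C 0)
  have hX : Curv2.euler k X C = r := by
    rw [Curv2.euler, finsum_eq_single _ 0 fun n hn => by
      haveI := hCa n (Nat.pos_of_ne_zero hn)
      rw [Module.finrank_zero_of_subsingleton, Nat.cast_zero, mul_zero], pow_zero, one_mul]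
  have hZ : Curv2.euler k Z (CohB1.tensorMod ((Scheme.Modules.pullback p).obj C) ((Scheme.Modules.pullback q).obj G)) =
      Curv2.euler k Y ((OF (k := k) G).obj ((Scheme.Modules.pushforward (X ↘ Spec (CommRingCat.of k))).obj C)) := by
    refine finsum_congr fun n => ?_
    exact congrArg (fun m : ℕ => (-1 : ℤ) ^ n * (m : ℤ))
      (LinearEquiv.ofBijective (toZLin h.w hq e C n) (toZ_bijective p q e h hG hC.1 hCa n)).finrank_eq.symm
  rw [hZ, hX]
  show Curv2.euler k Y (CohB1.tensorMod ((Scheme.Modules.pullback (Y ↘ Spec (CommRingCat.of k))).obj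
    ((Scheme.Modules.pushforward (X ↘ Spec (CommRingCat.of k))).obj C)) G) = _
  rw [CurveCoh17.euler_iso (M2.tensorIso ((Scheme.Modules.pullback (Y ↘ Spec (CommRingCat.of k))).mapIso i ≪≫
    M2.freeModPullbackIso _ r) (Iso.refl G)), ChiTwist22.euler_tensor_free hGc]

end Groth.Agent.RR22
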